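import Cfsg.Agent.H573.Tri.Base
import Cfsg.Agent.H163.PG.Fi24
import Cfsg.Agent.H353.NHFiTF

/-!
# `TriH` for `Fi24'` (helper573)
-/

set_option autoImplicit false
set_option linter.constructorNameAsVariable false
set_option maxRecDepth 10000

namespace Cfsg.Agent.H573.Tri.FiTF

open Cfsg Cfsg.Spor Cfsg.Agent.Fischer Cfsg.Agent.Fischer.Abstract Cfsg.Agent.R08.FiTwentyFour
open Cfsg.Agent.Fischer.Fi24Class (gen gen_sq comm_l)
open Cfsg.Agent.Fischer.Fi24Final (sgn sgn_gen)
open Cfsg.Agent.LThreeFi22 (fix_modEq ncard_conj conj_comm_iff)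
open Cfsg.Agent.H163.PG Cfsg.Agent.H163.PG.FiTF
open Subgroup

/-- an element of order 11 commutes with no element of prime order `s ≥ 5`, `s ≠ 11` -/
theorem eleven_all {x y : Fi24} (hx : orderOf x = 11) {s : ℕ} (hs : s.Prime) (h3 : 5 ≤ s)
    (hs' : s ≠ 11) (hy : orderOf y = s) (hxy : x * y = y * x) : False := by
  have hodd : Odd s := hs.odd_of_ne_two (by omega)
  have hmod := fx_modEq (r := 11) (by norm_num) (x := x) (by rw [← hx, pow_orderOf_eq_one])
  have hne : (Fx x).Nonempty := by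
    rw [← Set.ncard_pos (finite_set _)]
    unfold Nat.ModEq at hmod
    omega
  obtain ⟨d, hd⟩ := hne
  obtain ⟨g, hg⟩ := conj_l hd
  have hx' : orderOf (g * x * g⁻¹) = 11 := by rw [← hx]; exact (MulAut.conj g).orderOf_eq x
  have hy' : orderOf (g * y * g⁻¹) = s := by rw [← hy]; exact (MulAut.conj g).orderOf_eq y
  have hxy' := comm_conj (g := g) hxy
  set x' := g * x * g⁻¹
  set y' := g * y * g⁻¹
  obtain ⟨k, hk, hk11⟩ := exists_phi (by decide) hx' hg
  have hsub : Fx x' ⊆ insert (gen .l) ((fun d => gen .l * facts.phi d) '' FiTT.Fx k) := by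
    intro e he
    rcases fx_eq (p := 11) (by norm_num) (by norm_num) (by decide) hx' hg hk he with h | ⟨d, hd, h⟩
    · exact Or.inl h
    · exact Or.inr ⟨d, hd, h.symm⟩
  have hle : (Fx x').ncard ≤ 3 := by
    refine (Set.ncard_le_ncard hsub (finite_set _)).trans ((Set.ncard_insert_le _ _).trans ?_)
    have h1 := Set.ncard_image_le (f := fun d => gen .l * facts.phi d) (FiTT.finite_set (FiTT.Fx k))
    have h2 := FiTT.fx_le hk11
    omega
  have hmod1 := fx_modEq (r := 11) (by norm_num) (x := x') (by rw [← hx', pow_orderOf_eq_one])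
  have h2 : (Fx x').ncard = 3 := by
    unfold Nat.ModEq at hmod1
    omega
  have hmod' := fx_modEq' hs (x := x') (y := y') (by rw [← hy', pow_orderOf_eq_one]) hxy'
  have hsub' : {d | d ∈ Fx x' ∧ y' * d = d * y'} ⊆ Fx x' := fun d hd => hd.1
  have hle' := Set.ncard_le_ncard hsub' (finite_set _)
  have hpos : {d | d ∈ Fx x' ∧ y' * d = d * y'}.Nonempty := by
    rw [← Set.ncard_pos (finite_set _)]
    rw [h2] at hmod' hle'
    unfold Nat.ModEq at hmod'
    rw [Nat.mod_eq_of_lt (by omega : 3 < s), Nat.mod_eq_of_lt (by omega : _ < s)] at hmod'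
    omega
  obtain ⟨f, hf, hyf⟩ := hpos
  obtain ⟨g', hg', hl'⟩ : ∃ g' : Fi24, (g' * x' * g'⁻¹) * gen .l = gen .l * (g' * x' * g'⁻¹) ∧
      (g' * y' * g'⁻¹) * gen .l = gen .l * (g' * y' * g'⁻¹) := by
    obtain ⟨c, hc⟩ := isConj_iff.1 (show IsConj (gen .l) f from hf.1)
    have key : ∀ u : Fi24, u * f = f * u → (c⁻¹ * u * c⁻¹⁻¹) * gen .l = gen .l * (c⁻¹ * u * c⁻¹⁻¹) := by
      intro u hu
      rw [← hc] at hu
      calc c⁻¹ * u * c⁻¹⁻¹ * gen .l = c⁻¹ * (u * (c * gen .l * c⁻¹)) * c := by group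
        _ = c⁻¹ * (c * gen .l * c⁻¹ * u) * c := by rw [hu]
        _ = gen .l * (c⁻¹ * u * c⁻¹⁻¹) := by group
    exact ⟨c⁻¹, key x' hf.2, key y' hyf⟩
  have hx'' : orderOf (g' * x' * g'⁻¹) = 11 := by rw [← hx']; exact (MulAut.conj g').orderOf_eq x'
  have hy'' : orderOf (g' * y' * g'⁻¹) = s := by rw [← hy']; exact (MulAut.conj g').orderOf_eq y'
  obtain ⟨m, hm, hm11⟩ := exists_phi (by decide) hx'' hg'
  obtain ⟨l, hl, hls⟩ := exists_phi hodd hy'' hl'
  refine FiTT.eleven hm11 hs (by omega) ?_ hls ?_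
  · intro h22
    have h1 : s ∣ 2 * 11 := h22
    rcases hs.dvd_mul.1 h1 with h | h
    · have := Nat.le_of_dvd (by norm_num) h
      omega
    · exact hs' ((Nat.prime_dvd_prime_iff_eq hs (by norm_num)).1 h)
  · apply facts.phi_injective
    rw [map_mul, map_mul, hm, hl]
    exact comm_conj hxy'

end Cfsg.Agent.H573.Tri.FiTF

namespace Cfsg.Agent.H573.Tri.FiTF

open Cfsg Cfsg.Spor Subgroup Cfsg.Agent.H630.NH Cfsg.Agent.H241.NH Cfsg.Agent.H353.NHFiTF
open Cfsg.Agent.R08.FiTwentyFour (finite_Fi24)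
open Cfsg.Agent.H555.Tri (TriH TriH.congr)

theorem nc_eleven {s : ℕ} (hs : s.Prime) (h5 : 5 ≤ s) (h11 : 11 ≠ s) (hd : s ∣ Nat.card Spor.Fi24') :
    NC 11 s Spor.Fi24' := by
  have := finite_Fi24
  have := finite_prime
  have hF : Fact (Nat.Prime 11) := ⟨by norm_num⟩
  obtain ⟨x, hx⟩ := exists_prime_orderOf_dvd_card' (G := Spor.Fi24') 11 (by rw [card_prime]; norm_num)
  exact nc_of_elem hs h11 hd hx fun y hy hxy => eleven_all (x := (x : Fi24)) (y := (y : Fi24))
    (by rw [Subgroup.orderOf_coe]; exact hx) hs h5 h11.symm (by rw [Subgroup.orderOf_coe]; exact hy)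
    (congrArg Subtype.val hxy)

theorem triH_model : TriH Spor.Fi24' := by
  have := finite_Fi24
  have := finite_prime
  refine triH_of 1255205709190661721292800 21 card_prime [3, 5, 7, 11, 13, 17, 23, 29] [3, 7]
    [(11, 5), (11, 13), (11, 17), (11, 23), (11, 29)] ?_ (by norm_num) ?_ ?_ (by decide)
  · intro q hq
    simp only [List.mem_cons, List.not_mem_nil, or_false] at hq
    rcases hq with rfl | rfl | rfl | rfl | rfl | rfl | rfl | rfl <;> norm_num
  · intro p hp q hq hpq
    simp only [List.mem_cons, List.not_mem_nil, or_false] at hp hq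
    rcases hp with rfl | rfl
    · refine nc_three ?_ hpq ?_
      · rcases hq with rfl | rfl | rfl | rfl | rfl | rfl | rfl | rfl <;> norm_num
      · rw [card_prime]
        rcases hq with rfl | rfl | rfl | rfl | rfl | rfl | rfl | rfl <;> norm_num
    · rcases hq with rfl | rfl | rfl | rfl | rfl | rfl | rfl | rfl
      · exact (nc_three (by norm_num) (by norm_num) (by rw [card_prime]; norm_num)).symm
      · exact nc_seven_five
      · exact absurd rfl hpq
      · exact nc_seven_eleven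
      · exact nc_seven_thirteen
      · exact nc_seven_seventeen
      · exact nc_seven_twentythree
      · exact nc_seven_twentynine
  · intro a ha
    simp only [List.mem_cons, List.not_mem_nil, or_false] at ha
    rcases ha with rfl | rfl | rfl | rfl | rfl <;>
      exact nc_eleven (by norm_num) (by norm_num) (by norm_num) (by rw [card_prime]; norm_num)

/-- **`TriH` for `Fi24'`** -/
theorem triH_fi24 {X : Type*} [Group X] (h : Spor.IsoFi24' X) : TriH X := by
  obtain ⟨e⟩ := h
  exact TriH.congr e.symm triH_model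

end Cfsg.Agent.H573.Tri.FiTF
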